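import Groth.Agent.L16.GeomRed.StableClosure
import Groth.Agent.L16.Grosshans.Main
import Groth.Agent.S11208

/-!
# Stability at rational points and the setting of a maximal unipotent subgroup
-/

set_option autoImplicit false
set_option backward.isDefEq.respectTransparency.types false

universe u

open CategoryTheory MonoidalCategory CartesianMonoidalCategory MonObj AlgebraicGeometry
open scoped TensorProduct
open Groth.L25.Observable

noncomputable section

namespace Groth.L16.GeomRed

variable {k : Type u} [Field k] {G : Over (Spec (CommRingCat.of k))} [GrpObj G]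

/-- A stable subspace is stable under rational points. -/
theorem ptAct_mem_of_isStable {V : Type u} [AddCommGroup V] [Module k V] (m : VecGrp.GMod G V) {W : Submodule k V}
    (hW : m.IsStable (𝟙 G) W) {v : V} (hv : v ∈ W) (g : VecGrp.pt k k ⟶ G) : ptAct m g v ∈ W := by
  have h := hW k g v hv
  rw [Category.comp_id] at h
  rw [Submodule.baseChange_eq_span] at h
  have h2 : TensorProduct.lid k V (m.ρ k g ((1 : k) ⊗ₜ[k] v)) ∈
      Submodule.map (TensorProduct.lid k V).toLinearMap (Submodule.span k (↑(W.map (TensorProduct.mk k k V 1)) : Set (k ⊗[k] V))) :=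
    Submodule.mem_map_of_mem h
  rw [Submodule.span_eq, ← Submodule.map_comp] at h2
  obtain ⟨w, hw, hwe⟩ := h2
  rw [show ptAct m g v = TensorProduct.lid k V (m.ρ k g ((1 : k) ⊗ₜ[k] v)) from rfl, ← hwe]
  simpa using hw

variable [IsAlgClosed k]

/-- What is needed of the unipotent radical of a Borel subgroup. -/
theorem borel_radical_setting {Bo U : Over (Spec (CommRingCat.of k))} [GrpObj Bo] [GrpObj U]
    (hG : VecGrp.IsReductiveGrp k G) {iB : Bo ⟶ G} (hB : Red.IsBorelOver k iB) {u : U ⟶ Bo}
    (hU : Par.IsUnipotentRadical u) (thmA : VecGrp.ReductiveInvariantsFG k) :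
    IsMonHom (u ≫ iB) ∧ IsAffine G.left ∧ Smooth G.hom ∧ IsAffine U.left ∧ Smooth U.hom ∧ ConnectedSpace U.left ∧
      Red.HasNoSubtorus k U ∧
      ∀ (R : Type u) [CommRing R] [Algebra k R] [Algebra.FiniteType k R] (ρ : VecGrp.GMod G R) (hρ : ρ.IsMult),
        Algebra.FiniteType k ↥(ρ.fixedSubalgebra hρ (u ≫ iB)) := by
  haveI := hB.1; haveI := hB.2.1; haveI := hB.2.2.1; haveI := hU.1; haveI := hU.2.1
  haveI : IsAffine G.left := hG.1
  haveI : Smooth G.hom := hG.2.1
  haveI : IsClosedImmersion (u ≫ iB).left := inferInstanceAs (IsClosedImmersion (u.left ≫ iB.left))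
  refine ⟨inferInstance, inferInstance, inferInstance, isAffine_of_isAffineHom (u ≫ iB).left, hU.2.2.2.1,
    (Groth.L16.Grosshans.radical_props hU).1, (Groth.L16.Grosshans.radical_props hU).2, ?_⟩
  intro R _ _ _ ρ hρ
  exact Groth.Agent.S11208.result k G hG Bo iB hB U u hU thmA R ρ hρ

end Groth.L16.GeomRed
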