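import Groth.Agent.L16.GeomRed.IntegralLift
import Groth.Agent.L14.Luna.Cor
import Mathlib.RingTheory.Valuation.LocalSubring
import Mathlib.RingTheory.Polynomial.Basic

/-!
# An algebra is integral over the translates of its invariants under a maximal unipotent subgroup
-/

set_option autoImplicit false
set_option backward.isDefEq.respectTransparency.types false
set_option linter.style.haveILetI false
set_option linter.unusedSectionVars false
set_option maxHeartbeats 1000000

universe u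

open CategoryTheory MonoidalCategory CartesianMonoidalCategory MonObj AlgebraicGeometry
open scoped TensorProduct
open Groth.L25.Observable Polynomial

noncomputable section

namespace Groth.L16.GeomRed

variable {k : Type u} [Field k] [IsAlgClosed k] {G U : Over (Spec (CommRingCat.of k))} [GrpObj G] [GrpObj U]
  [IsAffine G.left] [Smooth G.hom] [IsAffine U.left] [Smooth U.hom] [ConnectedSpace U.left]

/-- A stable subalgebra carries the restricted action. -/
theorem exists_restrictAlg {R : Type u} [CommRing R] [Algebra k R] (ρR : VecGrp.GMod G R) (hρR : ρR.IsMult)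
    (S : Subalgebra k R) (hS : ρR.IsStable (𝟙 G) (Subalgebra.toSubmodule S)) :
    ∃ ρS : VecGrp.GMod G S, ρS.IsMult ∧ ∀ (B : Type u) [CommRing B] [Algebra k B] (g : VecGrp.pt k B ⟶ G) (z : B ⊗[k] S),
      Algebra.TensorProduct.map (AlgHom.id B B) S.val (ρS.ρ B g z) =
        ρR.ρ B g (Algebra.TensorProduct.map (AlgHom.id B B) S.val z) := by
  obtain ⟨mS, hmS⟩ := exists_restrict ρR (Subalgebra.toSubmodule S) hS
  let ρS : VecGrp.GMod G S := mS
  have hρSv : ∀ (B : Type u) [CommRing B] [Algebra k B] (g : VecGrp.pt k B ⟶ G) (z : B ⊗[k] S),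
      Algebra.TensorProduct.map (AlgHom.id B B) S.val (ρS.ρ B g z) =
        ρR.ρ B g (Algebra.TensorProduct.map (AlgHom.id B B) S.val z) := by
    intro B _ _ g z
    have e : ∀ z : B ⊗[k] S, Algebra.TensorProduct.map (AlgHom.id B B) S.val z =
        (Subalgebra.toSubmodule S).subtype.baseChange B z := by
      intro z
      induction z using TensorProduct.induction_on with
      | zero => exact (map_zero _).trans (map_zero _).symm
      | add p q hp hq => exact (map_add _ p q).trans ((congrArg₂ (· + ·) hp hq).trans (map_add _ p q).symm)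
      | tmul b c => rfl
    rw [e, e]; exact hmS B g z
  have hSinj : ∀ (B : Type u) [CommRing B] [Algebra k B],
      Function.Injective (Algebra.TensorProduct.map (AlgHom.id B B) S.val) := fun B _ _ =>
    Module.Flat.lTensor_preserves_injective_linearMap (M := B) S.val.toLinearMap Subtype.val_injective
  refine ⟨ρS, fun B _ _ g => ⟨fun x y => hSinj B ?_, hSinj B ?_⟩, hρSv⟩
  · rw [hρSv B g, map_mul, (hρR B g).1, map_mul, hρSv B g, hρSv B g]
  · rw [hρSv B g, map_one, (hρR B g).2]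

/-- A valuation nonnegative on the translates of the invariants is nonnegative everywhere. -/
theorem mem_valuation (iU : U ⟶ G) [IsMonHom iU] (hns : Red.HasNoSubtorus k U)
    (hfin : ∀ (R : Type u) [CommRing R] [Algebra k R] [Algebra.FiniteType k R] (ρ : VecGrp.GMod G R) (hρ : ρ.IsMult),
      Algebra.FiniteType k ↥(ρ.fixedSubalgebra hρ iU))
    {A : Type u} [CommRing A] [Algebra k A] (ρ : VecGrp.GMod G A) (hρ : ρ.IsMult)
    {K : Type u} [Field K] (e : A →+* K) (V : ValuationSubring K)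
    (hinv : ∀ x ∈ ρ.fixedUnder iU, ∀ g : VecGrp.pt k k ⟶ G, e (ptAct ρ g x) ∈ V) (a : A) : e a ∈ V := by
  classical
  haveI : Group.IsSolvable (VecGrp.pt k k ⟶ U) := by
    obtain ⟨n, hn⟩ := Groth.L14.Luna.isSolvableGrp_of_noSubtorus U hns
    exact ⟨⟨n, hn _⟩⟩
  letI : Algebra k K := (e.comp (algebraMap k A)).toAlgebra
  let eA : A →ₐ[k] K := { e with commutes' := fun r => rfl }
  have hconst : ∀ r : k, algebraMap k K r ∈ V := fun r => by
    have h := hinv _ ((ρ.fixedSubalgebra hρ iU).algebraMap_mem r) 1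
    rwa [ptAct_one] at h
  obtain ⟨W, hWfin, haW, hWst⟩ := exists_finite_stable ρ a
  haveI := hWfin
  obtain ⟨s, hs⟩ := (Module.Finite.iff_fg.1 hWfin : W.FG)
  by_contra haV
  -- the largest value
  obtain ⟨w₀, hw₀mem, hw₀⟩ := Finset.exists_max_image (insert a s) (fun w => V.valuation (e w)) ⟨a, Finset.mem_insert_self _ _⟩
  let c := e w₀
  have hca : V.valuation (e a) ≤ V.valuation c := hw₀ a (Finset.mem_insert_self _ _)
  have hcV : c ∉ V := fun h => haV ((V.valuation_le_one_iff _).1 (hca.trans ((V.valuation_le_one_iff _).2 h)))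
  have hc0 : c ≠ 0 := fun h => hcV (h ▸ zero_mem V)
  have hcinv : c⁻¹ ∈ V := (V.mem_or_inv_mem c).resolve_left hcV
  have hcmax : (⟨c⁻¹, hcinv⟩ : V) ∈ IsLocalRing.maximalIdeal V := by
    rw [IsLocalRing.mem_maximalIdeal]
    intro hu
    refine hcV ?_
    obtain ⟨z, hz⟩ := hu.exists_left_inv
    have h1 := congrArg Subtype.val hz
    change (z : K) * c⁻¹ = 1 at h1
    rw [mul_inv_eq_one₀ hc0] at h1
    rw [← h1]; exact z.2
  have hdivs : ∀ w ∈ W, e w * c⁻¹ ∈ V := by
    intro w hw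
    rw [← hs] at hw
    induction hw using Submodule.span_induction with
    | mem z hz =>
      rw [← V.valuation_le_one_iff, map_mul, map_inv₀]
      exact mul_inv_le_one_of_le₀ (hw₀ z (Finset.mem_insert_of_mem hz)) zero_le
    | zero => simp
    | add z y _ _ hz hy => rw [map_add, add_mul]; exact add_mem hz hy
    | smul r z _ hz =>
      rw [Algebra.smul_def, map_mul, _root_.mul_assoc]
      exact mul_mem (hconst r) hz
  let res := IsLocalRing.residue V
  let rW : W →+ IsLocalRing.ResidueField V :=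
    res.toAddMonoidHom.comp
      { toFun := fun w => (⟨e w * c⁻¹, hdivs w w.2⟩ : V)
        map_zero' := Subtype.ext (by simp)
        map_add' := fun x y => Subtype.ext (by simp [add_mul]) }
  -- a vector fixed modulo the vanishing subspace
  let W₀ : Submodule k A :=
    { carrier := {w | ∃ hw : w ∈ W, ∀ g : VecGrp.pt k k ⟶ G, rW ⟨ptAct ρ g w, hWst g w hw⟩ = 0}
      zero_mem' := ⟨zero_mem _, fun g => by
        rw [show (⟨ptAct ρ g 0, hWst g 0 (zero_mem _)⟩ : W) = 0 from Subtype.ext (map_zero _), map_zero]⟩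
      add_mem' := by
        rintro x y ⟨hx, hx'⟩ ⟨hy, hy'⟩
        refine ⟨add_mem hx hy, fun g => ?_⟩
        rw [show (⟨ptAct ρ g (x + y), hWst g _ (add_mem hx hy)⟩ : W) =
          ⟨ptAct ρ g x, hWst g x hx⟩ + ⟨ptAct ρ g y, hWst g y hy⟩ from Subtype.ext (map_add _ x y), map_add, hx', hy',
          add_zero]
      smul_mem' := by
        rintro r x ⟨hx, hx'⟩
        refine ⟨W.smul_mem r hx, fun g => ?_⟩
        have h : res ⟨e (ptAct ρ g x) * c⁻¹, hdivs _ (hWst g x hx)⟩ = 0 := hx' g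
        show res ⟨e (ptAct ρ g (r • x)) * c⁻¹, hdivs _ (hWst g _ (W.smul_mem r hx))⟩ = 0
        rw [show (⟨e (ptAct ρ g (r • x)) * c⁻¹, hdivs _ (hWst g _ (W.smul_mem r hx))⟩ : V) =
          ⟨algebraMap k K r, hconst r⟩ * ⟨e (ptAct ρ g x) * c⁻¹, hdivs _ (hWst g x hx)⟩ from Subtype.ext (by
            show e (ptAct ρ g (r • x)) * c⁻¹ = algebraMap k K r * (e (ptAct ρ g x) * c⁻¹)
            rw [map_smul, Algebra.smul_def, map_mul, _root_.mul_assoc]; rfl), map_mul, h, mul_zero] }
  have hne : ¬ W ≤ W₀ := by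
    intro hle
    have hw₀W : w₀ ∈ W := by
      rcases Finset.mem_insert.1 hw₀mem with h | h
      · exact h ▸ haW
      · exact hs ▸ Submodule.subset_span (Finset.mem_coe.2 h)
    obtain ⟨_, h⟩ := hle hw₀W
    have h1 : res ⟨e (ptAct ρ 1 w₀) * c⁻¹, hdivs _ (hWst 1 _ hw₀W)⟩ = 0 := h 1
    rw [show (⟨e (ptAct ρ 1 w₀) * c⁻¹, hdivs _ (hWst 1 _ hw₀W)⟩ : V) = 1 from Subtype.ext (by
      show e (ptAct ρ 1 w₀) * c⁻¹ = 1
      rw [ptAct_one]; exact mul_inv_cancel₀ hc0), map_one] at h1
    exact one_ne_zero h1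
  obtain ⟨⟨w, hwW, hwW₀, hwfix⟩, -⟩ := exists_fixed_mod_pts hns iU ρ W₀ W (fun g v ⟨hv, hv'⟩ =>
    ⟨hWst _ v hv, fun g' => by
      have := hv' (g' * (g ≫ iU))
      rw [show (⟨ptAct ρ g' (ptAct ρ (g ≫ iU) v), hWst g' _ (hWst _ v hv)⟩ : W) =
        ⟨ptAct ρ (g' * (g ≫ iU)) v, hWst _ v hv⟩ from Subtype.ext (ptAct_mul ρ _ _ v).symm]
      exact this⟩) (fun g v hv => hWst _ v hv) hne
  -- the graded algebra
  let ρP : VecGrp.GMod G k[X] := VecGrp.GMod.trivial G k[X]
  have hρP : ρP.IsMult := fun B _ _ g => ⟨fun x y => rfl, rfl⟩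
  obtain ⟨ρR, hρR, hgen⟩ := exists_tensor ρ hρ ρP hρP
  have hptR : ∀ (g : VecGrp.pt k k ⟶ G) (x : A) (p : k[X]), ptAct ρR g (x ⊗ₜ[k] p) = ptAct ρ g x ⊗ₜ[k] p := by
    intro g x p
    have h := hgen k g x p
    rw [ptAct_spec, ptAct_spec, show ρP.ρ k g ((1 : k) ⊗ₜ[k] p) = (1 : k) ⊗ₜ[k] p from rfl] at h
    simp only [Algebra.TensorProduct.map_tmul, AlgHom.id_apply, Algebra.TensorProduct.includeLeft_apply,
      Algebra.TensorProduct.includeRight_apply, Algebra.TensorProduct.tmul_mul_tmul, _root_.one_mul,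
      _root_.mul_one] at h
    simpa using congrArg (TensorProduct.lid k _) h
  let Θ : A ⊗[k] k[X] →ₐ[k] K[X] :=
    Algebra.TensorProduct.lift ((Polynomial.CAlgHom (R := k)).comp eA) (Polynomial.aeval (C c⁻¹ * X))
      fun _ _ => Commute.all _ _
  let S : Subalgebra k (A ⊗[k] k[X]) := Algebra.adjoin k ((fun w : A => w ⊗ₜ[k] (X : k[X])) '' (W : Set A))
  haveI : Algebra.FiniteType k S := by
    refine (Subalgebra.fg_iff_finiteType _).1 ⟨s.image (fun w => w ⊗ₜ[k] (X : k[X])), le_antisymm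
      (Algebra.adjoin_mono ?_) (Algebra.adjoin_le ?_)⟩
    · rw [Finset.coe_image]
      exact Set.image_mono (hs ▸ Submodule.subset_span)
    · rintro _ ⟨z, hz, rfl⟩
      rw [SetLike.mem_coe, ← hs] at hz
      induction hz using Submodule.span_induction with
      | mem y hy => exact Algebra.subset_adjoin (Finset.mem_coe.2 (Finset.mem_image_of_mem _ hy))
      | zero => beta_reduce; rw [TensorProduct.zero_tmul]; exact zero_mem _
      | add y t _ _ hy ht => beta_reduce; rw [TensorProduct.add_tmul]; exact add_mem hy ht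
      | smul r y _ hy => beta_reduce; rw [← TensorProduct.smul_tmul']; exact Subalgebra.smul_mem _ hy r
  have hone : ∀ g, ptAct ρR g 1 = 1 := fun g => by
    have e1 := (hρR k g).2
    rw [Algebra.TensorProduct.one_def, ptAct_spec] at e1
    simpa using congrArg (TensorProduct.lid k (A ⊗[k] k[X])) e1
  have hSst : ∀ (g : VecGrp.pt k k ⟶ G), ∀ x ∈ Subalgebra.toSubmodule S, ptAct ρR g x ∈ Subalgebra.toSubmodule S := by
    intro g x hx
    rw [Subalgebra.mem_toSubmodule] at hx ⊢
    induction hx using Algebra.adjoin_induction with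
    | mem y hy =>
      obtain ⟨z, hz, rfl⟩ := hy
      rw [hptR]
      exact Algebra.subset_adjoin ⟨_, hWst g z hz, rfl⟩
    | algebraMap r => rw [Algebra.algebraMap_eq_smul_one, map_smul, hone]; exact Subalgebra.smul_mem _ (one_mem _) r
    | add y t _ _ hy ht => rw [map_add]; exact add_mem hy ht
    | mul y t _ _ hy ht => rw [ptAct_map_mul ρR hρR]; exact mul_mem hy ht
  obtain ⟨ρS, hρS, hρSv⟩ := exists_restrictAlg ρR hρR S (Groth.L16.Matsushima.isStable_of_pts ρR _ hSst)
  have hptS : ∀ (g : VecGrp.pt k k ⟶ G) (x : S), (ptAct ρS g x : A ⊗[k] k[X]) = ptAct ρR g (x : A ⊗[k] k[X]) := by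
    intro g x
    have h := hρSv k g ((1 : k) ⊗ₜ[k] x)
    rw [ptAct_spec ρS, Algebra.TensorProduct.map_tmul, Algebra.TensorProduct.map_tmul, Subalgebra.coe_val,
      AlgHom.id_apply] at h
    rw [ptAct_spec ρR] at h
    simpa using congrArg (TensorProduct.lid k (A ⊗[k] k[X])) h
  -- reduction
  let T : Subring K[X] := (mapRingHom V.subtype).range
  have hΘS : ∀ x ∈ S, Θ x ∈ T := by
    intro x hx
    induction hx using Algebra.adjoin_induction with
    | mem y hy =>
      obtain ⟨z, hz, rfl⟩ := hy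
      refine ⟨C (⟨e z * c⁻¹, hdivs z hz⟩ : V) * X, ?_⟩
      simp only [Θ, coe_mapRingHom, Polynomial.map_mul, map_C, map_X, Algebra.TensorProduct.lift_tmul, aeval_X]
      rw [← _root_.mul_assoc]
      exact congrArg (· * X) (map_mul C (e z) c⁻¹)
    | algebraMap r =>
      refine ⟨C (⟨algebraMap k K r, hconst r⟩ : V), ?_⟩
      rw [AlgHom.commutes, coe_mapRingHom, map_C]
      rfl
    | add y t _ _ hy ht => rw [map_add]; exact add_mem hy ht
    | mul y t _ _ hy ht => rw [map_mul]; exact mul_mem hy ht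
  let eT : V[X] ≃+* T := RingEquiv.ofBijective (mapRingHom V.subtype).rangeRestrict
    ⟨fun x y h => Polynomial.map_injective V.subtype Subtype.val_injective (congrArg Subtype.val h),
      (mapRingHom V.subtype).rangeRestrict_surjective⟩
  let χ : S →+* (IsLocalRing.ResidueField V)[X] :=
    (mapRingHom res).comp (eT.symm.toRingHom.comp ((Θ.toRingHom.comp S.val.toRingHom).codRestrict T fun x => hΘS x x.2))
  have hχ : ∀ (x : S) (q : V[X]), q.map V.subtype = Θ (x : A ⊗[k] k[X]) → χ x = q.map res := by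
    intro x q hq
    show (mapRingHom res) (eT.symm ⟨Θ (x : A ⊗[k] k[X]), hΘS x x.2⟩) = _
    rw [show eT.symm ⟨Θ (x : A ⊗[k] k[X]), hΘS x x.2⟩ = q from eT.injective (by
      rw [RingEquiv.apply_symm_apply]; exact Subtype.ext hq.symm)]
    rfl
  let ag : (VecGrp.pt k k ⟶ G) → (S →+* (IsLocalRing.ResidueField V)[X]) := fun g => χ.comp
    { toFun := ptAct ρS g
      map_one' := by
        refine Subtype.ext ?_
        rw [hptS]; exact hone g
      map_mul' := fun x y => ptAct_map_mul ρS hρS g x y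
      map_zero' := map_zero _
      map_add' := fun x y => map_add _ x y }
  let J : Ideal S := ⨅ g, RingHom.ker (ag g)
  have hJ : ∀ g : VecGrp.pt k k ⟶ G, ∀ x ∈ J, ptAct ρS g x ∈ J := fun g x hx => by
    rw [Submodule.mem_iInf] at hx ⊢
    intro g'
    show χ (ptAct ρS g' (ptAct ρS g x)) = 0
    rw [← ptAct_mul]; exact hx _
  have hwS : w ⊗ₜ[k] (X : k[X]) ∈ S := Algebra.subset_adjoin ⟨w, hwW, rfl⟩
  let f : S := ⟨_, hwS⟩
  have hlin : ∀ (g : VecGrp.pt k k ⟶ G) (z : A) (hz : z ∈ W) (hzS : z ⊗ₜ[k] (X : k[X]) ∈ S),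
      ag g ⟨_, hzS⟩ = C (rW ⟨ptAct ρ g z, hWst g z hz⟩) * X := by
    intro g z hz hzS
    show χ (ptAct ρS g ⟨_, hzS⟩) = _
    rw [hχ _ (C (⟨e (ptAct ρ g z) * c⁻¹, hdivs _ (hWst g z hz)⟩ : V) * X) (by
      rw [hptS, hptR]
      simp only [Θ, Polynomial.map_mul, map_C, map_X, Algebra.TensorProduct.lift_tmul, aeval_X]
      rw [← _root_.mul_assoc]
      exact congrArg (· * X) (map_mul C (e _) c⁻¹))]
    rw [Polynomial.map_mul, map_C, map_X]
    rfl
  have hf : ∀ h : VecGrp.pt k k ⟶ U, ptAct ρS (h ≫ iU) f - f ∈ J := fun h => by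
    obtain ⟨hdW, hd⟩ := hwfix h
    have hdS : (ptAct ρ (h ≫ iU) w - w) ⊗ₜ[k] (X : k[X]) ∈ S := Algebra.subset_adjoin ⟨_, hdW, rfl⟩
    have e1 : ptAct ρS (h ≫ iU) f - f = ⟨_, hdS⟩ := Subtype.ext (by
      rw [Subalgebra.coe_sub, hptS, hptR]
      exact (TensorProduct.sub_tmul _ _ _).symm)
    rw [e1, Submodule.mem_iInf]
    intro g
    show ag g ⟨_, hdS⟩ = 0
    rw [hlin g _ hdW hdS, hd g, map_zero, zero_mul]
  obtain ⟨p, hpm, hpJ⟩ := exists_monic_mem iU hfin ρS hρS J hJ hf
  -- invariants reduce to constants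
  have hcoef : ∀ (g : VecGrp.pt k k ⟶ G) (F : S), F ∈ ρS.fixedSubalgebra hρS iU → ag g F = C ((ag g F).coeff 0) := by
    intro g F hF
    let cf : ℕ → (A ⊗[k] k[X] →ₗ[k] A) := fun n =>
      (TensorProduct.rid k A).toLinearMap ∘ₗ (Polynomial.lcoeff k n).lTensor A
    have hcfΘ : ∀ (n : ℕ) (r : A ⊗[k] k[X]), (Θ r).coeff n = e (cf n r) * c⁻¹ ^ n := by
      intro n r
      induction r using TensorProduct.induction_on with
      | zero => simp [cf]
      | add x y hx hy => simp only [map_add, Polynomial.coeff_add, hx, hy, add_mul]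
      | tmul x q =>
        have hq : aeval (C c⁻¹ * X) q = (q.map (algebraMap k K)).comp (C c⁻¹ * X) := by
          rw [Polynomial.comp, Polynomial.eval₂_map, aeval_def]
          rfl
        simp only [Θ, Algebra.TensorProduct.lift_tmul, AlgHom.comp_apply, hq]
        show (C (e x) * _).coeff n = _
        rw [coeff_C_mul, comp_C_mul_X_coeff, coeff_map,
          show cf n (x ⊗ₜ[k] q) = q.coeff n • x by simp [cf], Algebra.smul_def, map_mul]
        show e x * (e (algebraMap k A (q.coeff n)) * c⁻¹ ^ n) = _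
        ring
    have hcfAct : ∀ (n : ℕ) (g : VecGrp.pt k k ⟶ G) (r : A ⊗[k] k[X]), cf n (ptAct ρR g r) = ptAct ρ g (cf n r) := by
      intro n g r
      induction r using TensorProduct.induction_on with
      | zero => simp
      | add x y hx hy => simp only [map_add, hx, hy]
      | tmul x q => rw [hptR]; simp [cf]
    have hcfInv : ∀ n, cf n (F : A ⊗[k] k[X]) ∈ ρ.fixedUnder iU := fun n => mem_fixedUnder_of_pts' iU ρ _ fun γ => by
      rw [ptAct_spec, ← hcfAct, ← hptS]
      congr 3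
      have h := hF k γ
      rw [ptAct_spec] at h
      simpa using congrArg (TensorProduct.lid k S) h
    obtain ⟨q, hq⟩ := hΘS _ (ptAct ρS g F).2
    rw [coe_mapRingHom] at hq
    have hag : ag g F = q.map res := hχ _ q hq
    refine Polynomial.ext fun n => ?_
    rw [coeff_C]
    split_ifs with hn
    · rw [hn]
    have h1 : ((q.coeff n : V) : K) = e (ptAct ρ g (cf n (F : A ⊗[k] k[X]))) * c⁻¹ ^ n := by
      rw [← hcfAct, ← hcfΘ, ← hptS, ← hq, coeff_map]
      rfl
    rw [hag, coeff_map, IsLocalRing.residue_eq_zero_iff]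
    rw [show q.coeff n = ⟨_, hinv _ (hcfInv n) g⟩ * (⟨c⁻¹, hcinv⟩ : V) ^ n from Subtype.ext (by simpa using h1)]
    exact Ideal.mul_mem_left _ _ (Ideal.pow_mem_of_mem _ hcmax n (Nat.pos_of_ne_zero hn))
  refine hwW₀ ⟨hwW, fun g => ?_⟩
  have h0 : ag g (Polynomial.aeval f p) = 0 := (Submodule.mem_iInf _).1 hpJ g
  let R₀ := ρS.fixedSubalgebra hρS iU
  let ev₀ : R₀ →+* IsLocalRing.ResidueField V := (Polynomial.constantCoeff).comp ((ag g).comp R₀.val.toRingHom)
  have hev₀ : (ag g).comp (algebraMap R₀ S) = C.comp ev₀ := RingHom.ext fun F => hcoef g F.1 F.2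
  rw [aeval_def, hom_eval₂, hev₀] at h0
  rw [show ag g f = C (rW ⟨ptAct ρ g w, hWst g w hwW⟩) * X from hlin g w hwW hwS] at h0
  have h1 : (p.map ev₀).comp (C (rW ⟨ptAct ρ g w, hWst g w hwW⟩) * X) = 0 := by
    rw [Polynomial.comp, Polynomial.eval₂_map]; exact h0
  have h2 := congrArg (fun t => Polynomial.coeff t (p.map ev₀).natDegree) h1
  simp only [comp_C_mul_X_coeff, coeff_zero] at h2
  rw [(hpm.map ev₀).coeff_natDegree, _root_.one_mul] at h2
  exact eq_zero_of_pow_eq_zero h2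

/-- The algebra is integral over any subalgebra containing all translates of its invariants. -/
theorem isIntegral_over (iU : U ⟶ G) [IsMonHom iU] (hns : Red.HasNoSubtorus k U)
    (hfin : ∀ (R : Type u) [CommRing R] [Algebra k R] [Algebra.FiniteType k R] (ρ : VecGrp.GMod G R) (hρ : ρ.IsMult),
      Algebra.FiniteType k ↥(ρ.fixedSubalgebra hρ iU))
    {A : Type u} [CommRing A] [Algebra k A] (ρ : VecGrp.GMod G A) (hρ : ρ.IsMult) (C : Subalgebra k A)
    (hC : ∀ x ∈ ρ.fixedUnder iU, ∀ g : VecGrp.pt k k ⟶ G, ptAct ρ g x ∈ C) (a : A) : IsIntegral C a := by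
  classical
  by_contra ha
  let M : Submonoid A :=
    { carrier := {z | ∃ p : Polynomial C, p.Monic ∧ Polynomial.aeval a p = z}
      one_mem' := ⟨1, Polynomial.monic_one, map_one _⟩
      mul_mem' := by
        rintro _ _ ⟨p, hp, rfl⟩ ⟨q, hq, rfl⟩
        exact ⟨p * q, hp.mul hq, map_mul _ _ _⟩ }
  have hdisj : Disjoint ((⊥ : Ideal A) : Set A) (M : Set A) := Set.disjoint_left.2 fun z hz ⟨p, hp, hpz⟩ =>
    ha ⟨p, hp, hpz.trans ((Submodule.mem_bot A).1 hz)⟩
  obtain ⟨P, hP, -, hPM⟩ := Ideal.exists_le_prime_disjoint ⊥ M hdisj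
  haveI := hP
  let e : A →+* FractionRing (A ⧸ P) := (algebraMap (A ⧸ P) (FractionRing (A ⧸ P))).comp (Ideal.Quotient.mk P)
  let S : Subring (FractionRing (A ⧸ P)) := C.toSubring.map e
  have h1 : e a ∈ (integralClosure (Subring.closure (S : Set (FractionRing (A ⧸ P)))) (FractionRing (A ⧸ P))).toSubring := by
    rw [← iInf_valuationSubring_superset, Subring.mem_iInf]
    rintro ⟨V, hV⟩
    exact mem_valuation iU hns hfin ρ hρ e V (fun x hx g => hV ⟨_, hC x hx g, rfl⟩) a
  rw [Subring.closure_eq] at h1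
  obtain ⟨p, hp, hpe⟩ : IsIntegral S (e a) := h1
  let eS : C →+* S := (e.comp C.val.toRingHom).codRestrict S fun x => ⟨x, x.2, rfl⟩
  have he : Function.Surjective eS := fun x => by
    obtain ⟨y, hy, hyx⟩ := x.2
    exact ⟨⟨y, hy⟩, Subtype.ext hyx⟩
  obtain ⟨p', hp', -, hp'm⟩ := Polynomial.lifts_and_degree_eq_and_monic
    ((Polynomial.lifts_iff_coeff_lifts _).2 fun m => he (p.coeff m)) hp
  refine Set.disjoint_left.1 hPM (?_ : Polynomial.aeval a p' ∈ P) ⟨p', hp'm, rfl⟩
  rw [← Ideal.Quotient.eq_zero_iff_mem]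
  refine IsFractionRing.injective (A ⧸ P) (FractionRing (A ⧸ P)) ?_
  rw [map_zero]
  show e (Polynomial.aeval a p') = 0
  rw [← hpe, ← hp', Polynomial.eval₂_map, Polynomial.aeval_def, Polynomial.hom_eval₂]
  rfl

end Groth.L16.GeomRed
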