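import Groth.Prelude.Def_W4bk4grossh1223Act
import Mathlib.Algebra.TrivSqZeroExt.Basic
import Mathlib.LinearAlgebra.TensorProduct.Prod

/-!
# The idealisation of a module with compatible action, for invariants under a subgroup
-/

set_option autoImplicit false
set_option maxHeartbeats 800000

universe u

open CategoryTheory MonObj AlgebraicGeometry
open scoped TensorProduct

noncomputable section

namespace Groth.L16.GeomRed

variable {k : Type u} [Field k] {G : Over (Spec (CommRingCat.of k))} [GrpObj G]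
  {A : Type u} [CommRing A] [Algebra k A] (ρA : VecGrp.GMod G A)
  {M : Type u} [AddCommGroup M] [Module A M] [Module k M] [IsScalarTower k A M] (ρM : VecGrp.GMod G M)

theorem fixed_fg_module {H : Over (Spec (CommRingCat.of k))} [GrpObj H] (i : H ⟶ G)
    (hfin : ∀ (R : Type u) [CommRing R] [Algebra k R] [Algebra.FiniteType k R] (ρ : VecGrp.GMod G R) (hρ : ρ.IsMult),
      Algebra.FiniteType k ↥(ρ.fixedSubalgebra hρ i))
    (hρ : ρA.IsMult) (hc : VecGrp.GMod.IsCompat ρA ρM) [Algebra.FiniteType k A] [Module.Finite A M] :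
    ∃ s : Finset M, (↑s : Set M) ⊆ ρM.fixedUnder i ∧
      ρM.fixedUnder i ≤ (Submodule.span ↥(ρA.fixedSubalgebra hρ i) (↑s : Set M)).restrictScalars k := by
  classical
  letI : Module Aᵐᵒᵖ M := Module.compHom M ((RingHom.id A).fromOpposite mul_comm)
  haveI : IsCentralScalar A M := ⟨fun a m => rfl⟩
  haveI : IsScalarTower k Aᵐᵒᵖ M := ⟨fun c a m => by
    show ((c • a).unop) • m = c • (a.unop • m)
    rw [MulOpposite.unop_smul, smul_assoc]⟩
  let toProd : (TrivSqZeroExt A M) ≃ₗ[k] A × M :=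
    { toFun := fun x => (x.fst, x.snd)
      invFun := fun p => TrivSqZeroExt.inl p.1 + TrivSqZeroExt.inr p.2
      map_add' := fun x y => rfl
      map_smul' := fun c x => rfl
      left_inv := fun x => TrivSqZeroExt.inl_fst_add_inr_snd_eq x
      right_inv := fun p => by simp }
  let E : ∀ (B : Type u) [CommRing B] [Algebra k B], B ⊗[k] (TrivSqZeroExt A M) ≃ₗ[B] (B ⊗[k] A) × (B ⊗[k] M) := fun B _ _ =>
    (toProd.baseChange k B (TrivSqZeroExt A M) (A × M)) ≪≫ₗ TensorProduct.prodRight k B B A M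
  have hE : ∀ (B : Type u) [CommRing B] [Algebra k B] (b : B) (x : (TrivSqZeroExt A M)),
      E B (b ⊗ₜ x) = (b ⊗ₜ[k] x.fst, b ⊗ₜ[k] x.snd) := fun B _ _ b x => rfl
  have hEmul : ∀ (B : Type u) [CommRing B] [Algebra k B] (x y : B ⊗[k] (TrivSqZeroExt A M)), E B (x * y) =
      ((E B x).1 * (E B y).1, VecGrp.GMod.smulW k A M B (E B x).1 (E B y).2 +
        VecGrp.GMod.smulW k A M B (E B y).1 (E B x).2) := by
    intro B _ _ x y
    induction x using TensorProduct.induction_on with
    | zero => simp [Prod.ext_iff]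
    | add p q hp hq =>
      rw [add_mul, map_add, hp, hq, map_add, Prod.fst_add, Prod.snd_add, add_mul, map_add, map_add,
        LinearMap.add_apply, Prod.mk_add_mk, add_add_add_comm]
    | tmul b x =>
      induction y using TensorProduct.induction_on with
      | zero => simp [Prod.ext_iff]
      | add p q hp hq =>
        rw [mul_add, map_add, hp, hq, map_add, Prod.fst_add, Prod.snd_add, mul_add, map_add, map_add,
          LinearMap.add_apply, Prod.mk_add_mk, add_add_add_comm]
      | tmul c y =>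
        rw [Algebra.TensorProduct.tmul_mul_tmul, hE, hE, hE]
        refine Prod.ext (by simp [TrivSqZeroExt.fst_mul]) ?_
        show (b * c) ⊗ₜ[k] (x * y).snd = _
        simp only [VecGrp.GMod.smulW, TensorProduct.map₂_apply_tmul, LinearMap.mul_apply', AlgHom.toLinearMap_apply,
          Algebra.lsmul_coe, TrivSqZeroExt.snd_mul, TensorProduct.tmul_add]
        simp [mul_comm c b]
  have hEmap : ∀ {B B' : Type u} [CommRing B] [Algebra k B] [CommRing B'] [Algebra k B'] (φ : B →ₐ[k] B')
      (x : B ⊗[k] (TrivSqZeroExt A M)), E B' (VecGrp.Wmap φ x) = (VecGrp.Wmap φ (E B x).1, VecGrp.Wmap φ (E B x).2) := by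
    intro B B' _ _ _ _ φ x
    induction x using TensorProduct.induction_on with
    | zero => simp [Prod.ext_iff]
    | add p q hp hq => simp only [map_add, hp, hq, Prod.fst_add, Prod.snd_add, Prod.mk_add_mk]
    | tmul b x => simp [hE, VecGrp.Wmap]
  let ρ : VecGrp.GMod G (TrivSqZeroExt A M) :=
    { ρ := fun B _ _ =>
        { toFun := fun g => (E B) ≪≫ₗ ((ρA.ρ B g).prodCongr (ρM.ρ B g)) ≪≫ₗ (E B).symm
          map_one' := LinearEquiv.ext fun x => by simp
          map_mul' := fun g g' => LinearEquiv.ext fun x => by simp }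
      naturality := fun {B B'} _ _ _ _ φ g x => by
        apply (E B').injective
        show E B' (VecGrp.Wmap φ ((E B).symm ((ρA.ρ B g (E B x).1), ρM.ρ B g (E B x).2))) =
          E B' ((E B').symm (ρA.ρ B' (VecGrp.ptMap φ ≫ g) (E B' (VecGrp.Wmap φ x)).1,
            ρM.ρ B' (VecGrp.ptMap φ ≫ g) (E B' (VecGrp.Wmap φ x)).2))
        rw [hEmap, LinearEquiv.apply_symm_apply, LinearEquiv.apply_symm_apply, hEmap, ρA.naturality, ρM.naturality] }
  have hρR : ρ.IsMult := by
    intro B _ _ g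
    refine ⟨fun x y => ?_, ?_⟩
    · apply (E B).injective
      show E B ((E B).symm (ρA.ρ B g (E B (x * y)).1, ρM.ρ B g (E B (x * y)).2)) =
        E B ((E B).symm (ρA.ρ B g (E B x).1, ρM.ρ B g (E B x).2) * (E B).symm (ρA.ρ B g (E B y).1, ρM.ρ B g (E B y).2))
      rw [hEmul, hEmul, LinearEquiv.apply_symm_apply, LinearEquiv.apply_symm_apply, LinearEquiv.apply_symm_apply,
        map_add, (hρ B g).1, hc, hc]
    · apply (E B).injective
      show E B ((E B).symm (ρA.ρ B g (E B 1).1, ρM.ρ B g (E B 1).2)) = E B 1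
      rw [LinearEquiv.apply_symm_apply, Algebra.TensorProduct.one_def, hE]
      simp only [TrivSqZeroExt.fst_one, TrivSqZeroExt.snd_one, TensorProduct.tmul_zero, map_zero]
      rw [← Algebra.TensorProduct.one_def, (hρ B g).2]
  haveI : Algebra.FiniteType k (TrivSqZeroExt A M) := by
    obtain ⟨sA, hsA⟩ := ‹Algebra.FiniteType k A›.out
    obtain ⟨sM, hsM⟩ := ‹Module.Finite A M›.fg_top
    refine ⟨⟨sA.image TrivSqZeroExt.inl ∪ sM.image TrivSqZeroExt.inr, eq_top_iff.2 fun x _ => ?_⟩⟩
    let S := Algebra.adjoin k ((sA.image TrivSqZeroExt.inl ∪ sM.image TrivSqZeroExt.inr : Finset (TrivSqZeroExt A M)) : Set (TrivSqZeroExt A M))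
    have hinl : ∀ a : A, (TrivSqZeroExt.inl a : (TrivSqZeroExt A M)) ∈ S := fun a => by
      have ha : a ∈ Algebra.adjoin k (sA : Set A) := hsA ▸ Algebra.mem_top
      induction ha using Algebra.adjoin_induction with
      | mem y hy =>
        exact Algebra.subset_adjoin (Finset.mem_coe.2 (Finset.mem_union_left _ (Finset.mem_image_of_mem _ hy)))
      | algebraMap r => exact S.algebraMap_mem r
      | add y z _ _ hy hz => rw [TrivSqZeroExt.inl_add]; exact S.add_mem hy hz
      | mul y z _ _ hy hz => rw [TrivSqZeroExt.inl_mul]; exact S.mul_mem hy hz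
    have hinr : ∀ m : M, (TrivSqZeroExt.inr m : (TrivSqZeroExt A M)) ∈ S := fun m => by
      have hm : m ∈ Submodule.span A (sM : Set M) := hsM ▸ Submodule.mem_top
      induction hm using Submodule.span_induction with
      | mem y hy =>
        exact Algebra.subset_adjoin (Finset.mem_coe.2 (Finset.mem_union_right _ (Finset.mem_image_of_mem _ hy)))
      | zero => rw [TrivSqZeroExt.inr_zero]; exact S.zero_mem
      | add y z _ _ hy hz => rw [TrivSqZeroExt.inr_add]; exact S.add_mem hy hz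
      | smul a y _ hy =>
        rw [← TrivSqZeroExt.inl_mul_inr]
        exact S.mul_mem (hinl a) hy
    rw [← TrivSqZeroExt.inl_fst_add_inr_snd_eq x]
    exact S.add_mem (hinl _) (hinr _)
  obtain ⟨s₀, hs₀⟩ := (hfin (TrivSqZeroExt A M) ρ hρR).out
  let s : Finset (TrivSqZeroExt A M) := s₀.image (ρ.fixedSubalgebra hρR i).val
  have hs : (↑s : Set (TrivSqZeroExt A M)) ⊆ ρ.fixedUnder i := fun x hx => by
    obtain ⟨y, -, rfl⟩ := Finset.mem_image.1 (Finset.mem_coe.1 hx)
    exact y.2
  have hle : ∀ x ∈ ρ.fixedUnder i, x ∈ Algebra.adjoin k (↑s : Set (TrivSqZeroExt A M)) := fun x hx => by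
    rw [Finset.coe_image, ← AlgHom.map_adjoin, hs₀]
    exact ⟨⟨x, hx⟩, Algebra.mem_top, rfl⟩
  have hfix : ∀ x : (TrivSqZeroExt A M), x ∈ ρ.fixedUnder i ↔ x.fst ∈ ρA.fixedUnder i ∧ x.snd ∈ ρM.fixedUnder i := by
    intro x
    have e : ∀ (B : Type u) [CommRing B] [Algebra k B] (g : VecGrp.pt k B ⟶ H),
        E B (ρ.ρ B (g ≫ i) ((1 : B) ⊗ₜ[k] x)) =
          (ρA.ρ B (g ≫ i) ((1 : B) ⊗ₜ[k] x.fst), ρM.ρ B (g ≫ i) ((1 : B) ⊗ₜ[k] x.snd)) := fun B _ _ g => by
      show E B ((E B).symm _) = _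
      rw [LinearEquiv.apply_symm_apply]
      rfl
    constructor
    · intro hx
      constructor <;> intro B _ _ g <;> have h := e B g <;> rw [hx B g, hE] at h
      · exact (congrArg Prod.fst h).symm
      · exact (congrArg Prod.snd h).symm
    · rintro ⟨h1, h2⟩ B _ _ g
      apply (E B).injective
      rw [e, h1 B g, h2 B g, hE]
  refine ⟨s.image TrivSqZeroExt.snd, ?_, fun m hm => ?_⟩
  · intro m hm
    obtain ⟨x, hx, rfl⟩ := Finset.mem_image.1 hm
    exact ((hfix x).1 (hs hx)).2
  · let N := Submodule.span ↥(ρA.fixedSubalgebra hρ i) (↑(s.image TrivSqZeroExt.snd) : Set M)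
    have key : ∀ x ∈ Algebra.adjoin k (s : Set (TrivSqZeroExt A M)), x.fst ∈ ρA.fixedSubalgebra hρ i ∧ x.snd ∈ N := by
      intro x hx
      induction hx using Algebra.adjoin_induction with
      | mem y hy => exact ⟨((hfix y).1 (hs hy)).1, Submodule.subset_span (Finset.mem_coe.2 (Finset.mem_image_of_mem _ hy))⟩
      | algebraMap r =>
        exact ⟨(ρA.fixedSubalgebra hρ i).algebraMap_mem r, by
          rw [show (algebraMap k (TrivSqZeroExt A M) r).snd = 0 from rfl]; exact N.zero_mem⟩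
      | add y z _ _ hy hz =>
        rw [TrivSqZeroExt.fst_add, TrivSqZeroExt.snd_add]
        exact ⟨add_mem hy.1 hz.1, add_mem hy.2 hz.2⟩
      | mul y z _ _ hy hz =>
        rw [TrivSqZeroExt.fst_mul, TrivSqZeroExt.snd_mul, op_smul_eq_smul]
        exact ⟨mul_mem hy.1 hz.1, add_mem (N.smul_mem ⟨_, hy.1⟩ hz.2) (N.smul_mem ⟨_, hz.1⟩ hy.2)⟩
    have hinr : (TrivSqZeroExt.inr m : (TrivSqZeroExt A M)) ∈ ρ.fixedUnder i := (hfix _).2
      ⟨by rw [TrivSqZeroExt.fst_inr]; exact zero_mem _, by rw [TrivSqZeroExt.snd_inr]; exact hm⟩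
    have := (key _ (hle _ hinr)).2
    rwa [TrivSqZeroExt.snd_inr] at this

end Groth.L16.GeomRed
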