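import Groth.Agent.L25.Observable.AlgAction
import Groth.Agent.L25.Observable.UnipFixed
import Groth.Agent.L16.Matsushima.PolyAct
import Mathlib.LinearAlgebra.TensorProduct.RightExactness

/-!
# Quotient modules and finite stable subspaces
-/

set_option autoImplicit false
set_option backward.isDefEq.respectTransparency.types false
set_option maxHeartbeats 1000000

universe u

open CategoryTheory MonoidalCategory CartesianMonoidalCategory MonObj AlgebraicGeometry
open scoped TensorProduct
open Groth.L25.Observable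

noncomputable section

namespace Groth.L16.GeomRed

variable {k : Type u} [Field k] {G : Over (Spec (CommRingCat.of k))} [GrpObj G]

/-- The action descends to the image of a linear map with stable kernel. -/
theorem exists_quotient {V Q : Type u} [AddCommGroup V] [Module k V] [AddCommGroup Q] [Module k Q]
    (m : VecGrp.GMod G V) (π : V →ₗ[k] Q) (hπ : Function.Surjective π)
    (hker : m.IsStable (𝟙 G) (LinearMap.ker π)) :
    ∃ mQ : VecGrp.GMod G Q, ∀ (B : Type u) [CommRing B] [Algebra k B] (g : VecGrp.pt k B ⟶ G) (x : B ⊗[k] V),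
      mQ.ρ B g (π.baseChange B x) = π.baseChange B (m.ρ B g x) := by
  classical
  have hsurj : ∀ (B : Type u) [CommRing B] [Algebra k B], Function.Surjective (π.baseChange B) := fun B _ _ =>
    LinearMap.lTensor_surjective B hπ
  have hk : ∀ (B : Type u) [CommRing B] [Algebra k B] (g : VecGrp.pt k B ⟶ G) (x : B ⊗[k] V),
      π.baseChange B x = 0 → π.baseChange B (m.ρ B g x) = 0 := by
    intro B _ _ g x hx
    obtain ⟨y, rfl⟩ := (lTensor_exact B π.exact_subtype_ker_map hπ x).1 hx
    clear hx
    induction y using TensorProduct.induction_on with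
    | zero => simp
    | add p q hp hq => simp only [map_add, hp, hq, add_zero]
    | tmul b v =>
      rw [LinearMap.lTensor_tmul, show b ⊗ₜ[k] ((LinearMap.ker π).subtype v) = b • ((1 : B) ⊗ₜ[k] (v : V)) by
        rw [TensorProduct.smul_tmul', smul_eq_mul, _root_.mul_one]; rfl, map_smul, map_smul]
      have h := hker B g (v : V) v.2
      rw [Category.comp_id] at h
      obtain ⟨z, hz⟩ := h
      rw [← hz]
      have : π.baseChange B ((LinearMap.ker π).subtype.baseChange B z) = 0 := by
        clear hz
        induction z using TensorProduct.induction_on with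
        | zero => simp
        | add p q hp hq => simp only [map_add, hp, hq, add_zero]
        | tmul c w => simp [show π (w : V) = 0 from w.2]
      rw [this, smul_zero]
  let lift : ∀ (B : Type u) [CommRing B] [Algebra k B], B ⊗[k] Q → B ⊗[k] V := fun B _ _ q => (hsurj B q).choose
  have hlift : ∀ (B : Type u) [CommRing B] [Algebra k B] (q : B ⊗[k] Q), π.baseChange B (lift B q) = q :=
    fun B _ _ q => (hsurj B q).choose_spec
  let f : ∀ (B : Type u) [CommRing B] [Algebra k B], (VecGrp.pt k B ⟶ G) → B ⊗[k] Q → B ⊗[k] Q :=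
    fun B _ _ g q => π.baseChange B (m.ρ B g (lift B q))
  have hf : ∀ (B : Type u) [CommRing B] [Algebra k B] (g : VecGrp.pt k B ⟶ G) (x : B ⊗[k] V),
      f B g (π.baseChange B x) = π.baseChange B (m.ρ B g x) := fun B _ _ g x => by
    refine sub_eq_zero.1 ?_
    show π.baseChange B (m.ρ B g (lift B (π.baseChange B x))) - π.baseChange B (m.ρ B g x) = 0
    rw [← map_sub, ← map_sub]
    exact hk B g _ (by rw [map_sub, hlift, sub_self])
  let act : ∀ (B : Type u) [CommRing B] [Algebra k B],
      (VecGrp.pt k B ⟶ G) →* ((B ⊗[k] Q) ≃ₗ[B] (B ⊗[k] Q)) := fun B _ _ =>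
    MonoidHom.mk' (fun g =>
      { toFun := f B g
        invFun := f B g⁻¹
        map_add' := fun x y => by
          obtain ⟨x, rfl⟩ := hsurj B x; obtain ⟨y, rfl⟩ := hsurj B y
          rw [← map_add, hf, hf, hf, map_add, map_add]
        map_smul' := fun c x => by
          obtain ⟨x, rfl⟩ := hsurj B x
          rw [← map_smul, hf, hf, map_smul, map_smul, RingHom.id_apply]
        left_inv := fun x => by
          obtain ⟨x, rfl⟩ := hsurj B x
          show f B g⁻¹ (f B g (π.baseChange B x)) = π.baseChange B x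
          rw [hf B g x, hf B g⁻¹ (m.ρ B g x), ← LinearEquiv.mul_apply, ← map_mul, inv_mul_cancel, map_one]; rfl
        right_inv := fun x => by
          obtain ⟨x, rfl⟩ := hsurj B x
          show f B g (f B g⁻¹ (π.baseChange B x)) = π.baseChange B x
          rw [hf B g⁻¹ x, hf B g (m.ρ B g⁻¹ x), ← LinearEquiv.mul_apply, ← map_mul, mul_inv_cancel, map_one]; rfl })
      fun g g' => LinearEquiv.ext fun x => by
        obtain ⟨x, rfl⟩ := hsurj B x
        show f B (g * g') (π.baseChange B x) = f B g (f B g' (π.baseChange B x))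
        rw [hf B (g * g') x, hf B g' x, hf B g (m.ρ B g' x), map_mul]; rfl
  refine ⟨⟨act, fun {B B'} _ _ _ _ φ g q => ?_⟩, fun B _ _ g x => hf B g x⟩
  obtain ⟨x, rfl⟩ := hsurj B q
  have key : ∀ z : B ⊗[k] V, VecGrp.Wmap φ (π.baseChange B z) = π.baseChange B' (VecGrp.Wmap φ z) := by
    intro z
    induction z using TensorProduct.induction_on with
    | zero => simp
    | add p q hp hq => simp only [map_add, hp, hq]
    | tmul b w => simp [VecGrp.Wmap]
  show VecGrp.Wmap φ (f B g (π.baseChange B x)) = f B' _ (VecGrp.Wmap φ (π.baseChange B x))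
  rw [hf, key, key, hf, m.naturality]

/-- A vector lies in a finite-dimensional subspace stable under the rational points. -/
theorem exists_finite_stable [IsAlgClosed k] [IsAffine G.left] {V : Type u} [AddCommGroup V] [Module k V] (m : VecGrp.GMod G V)
    (v : V) : ∃ W : Submodule k V, Module.Finite k W ∧ v ∈ W ∧
      ∀ g : VecGrp.pt k k ⟶ G, ∀ w ∈ W, ptAct m g w ∈ W := by
  classical
  obtain ⟨alg, gen, -, -, hfac⟩ := exists_gen G
  letI := alg
  obtain ⟨S, hS⟩ := TensorProduct.exists_finset (m.ρ _ gen ((1 : Γ(G.left, ⊤)) ⊗ₜ[k] v))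
  let W := Submodule.span k (Set.range fun g : VecGrp.pt k k ⟶ G => ptAct m g v)
  have hle : W ≤ Submodule.span k (↑(S.image Prod.snd) : Set V) := Submodule.span_le.2 (by
    rintro _ ⟨g, rfl⟩
    obtain ⟨φ, hφ, -⟩ := hfac k g
    have h1 : m.ρ k g ((1 : k) ⊗ₜ[k] v) = VecGrp.Wmap φ (m.ρ _ gen ((1 : Γ(G.left, ⊤)) ⊗ₜ[k] v)) := by
      rw [m.naturality, hφ, show VecGrp.Wmap φ ((1 : Γ(G.left, ⊤)) ⊗ₜ[k] v) = (1 : k) ⊗ₜ[k] v by simp [VecGrp.Wmap]]
    have h2 : ptAct m g v = TensorProduct.lid k V (m.ρ k g ((1 : k) ⊗ₜ[k] v)) := rfl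
    show ptAct m g v ∈ _
    rw [h2, h1, hS, map_sum, map_sum]
    exact sum_mem fun q hq => by
      rw [show TensorProduct.lid k V (VecGrp.Wmap φ (q.1 ⊗ₜ[k] q.2)) = φ q.1 • q.2 by simp [VecGrp.Wmap]]
      exact Submodule.smul_mem _ _ (Submodule.subset_span (Finset.mem_coe.2 (Finset.mem_image_of_mem _ hq))))
  refine ⟨W, ?_, Submodule.subset_span ⟨1, ptAct_one m v⟩, fun g w hw => ?_⟩
  · haveI := FiniteDimensional.span_finset k (S.image Prod.snd)
    exact Submodule.finiteDimensional_of_le hle
  have : W ≤ W.comap (ptAct m g) := Submodule.span_le.2 (by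
    rintro _ ⟨h, rfl⟩
    exact Submodule.subset_span ⟨g * h, ptAct_mul m g h v⟩)
  exact this hw

end Groth.L16.GeomRed
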