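import Groth.Agent.L16.GeomRed.Idealize
import Groth.Agent.L16.GeomRed.Quotient
import Mathlib.RingTheory.IntegralClosure.IsIntegral.Basic

/-!
# Elements invariant modulo a stable ideal are integral over the invariants
-/

set_option autoImplicit false
set_option backward.isDefEq.respectTransparency.types false
set_option maxHeartbeats 1000000

universe u

open CategoryTheory MonoidalCategory CartesianMonoidalCategory MonObj AlgebraicGeometry
open scoped TensorProduct
open Groth.L25.Observable

noncomputable section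

namespace Groth.L16.GeomRed

variable {k : Type u} [Field k] [IsAlgClosed k] {G H : Over (Spec (CommRingCat.of k))} [GrpObj G] [GrpObj H]

/-- If invariants of finitely generated algebras are finitely generated, an element invariant modulo a stable ideal is
integral over the invariants modulo the ideal. -/
theorem exists_monic_mem [IsAffine G.left] [Smooth G.hom] [IsAffine H.left] [Smooth H.hom] (i : H ⟶ G)
    (hfin : ∀ (R : Type u) [CommRing R] [Algebra k R] [Algebra.FiniteType k R] (ρ : VecGrp.GMod G R) (hρ : ρ.IsMult),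
      Algebra.FiniteType k ↥(ρ.fixedSubalgebra hρ i))
    {R : Type u} [CommRing R] [Algebra k R] [Algebra.FiniteType k R] (ρ : VecGrp.GMod G R) (hρ : ρ.IsMult)
    (J : Ideal R) (hJ : ∀ g : VecGrp.pt k k ⟶ G, ∀ x ∈ J, ptAct ρ g x ∈ J) {f : R}
    (hf : ∀ h : VecGrp.pt k k ⟶ H, ptAct ρ (h ≫ i) f - f ∈ J) :
    ∃ p : Polynomial ↥(ρ.fixedSubalgebra hρ i), p.Monic ∧ Polynomial.aeval f p ∈ J := by
  classical
  let π : R →ₐ[k] R ⧸ J := Ideal.Quotient.mkₐ k J
  have hπs : Function.Surjective π.toLinearMap := Ideal.Quotient.mk_surjective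
  have hker : LinearMap.ker π.toLinearMap = J.restrictScalars k :=
    Submodule.ext fun x => Ideal.Quotient.eq_zero_iff_mem
  have hstab : ρ.IsStable (𝟙 G) (LinearMap.ker π.toLinearMap) := by
    rw [hker]; exact Groth.L16.Matsushima.isStable_of_pts ρ _ hJ
  obtain ⟨mQ, hmQ⟩ := exists_quotient ρ π.toLinearMap hπs hstab
  have hsurjB : ∀ (B : Type u) [CommRing B] [Algebra k B], Function.Surjective (π.toLinearMap.baseChange B) :=
    fun B _ _ => LinearMap.lTensor_surjective B hπs
  have hc : VecGrp.GMod.IsCompat ρ mQ := by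
    intro B _ _ g x y
    obtain ⟨y, rfl⟩ := hsurjB B y
    have key : ∀ a b : B ⊗[k] R, π.toLinearMap.baseChange B (a * b) =
        VecGrp.GMod.smulW k R (R ⧸ J) B a (π.toLinearMap.baseChange B b) := by
      intro a b
      induction a using TensorProduct.induction_on with
      | zero => simp
      | add p q hp hq => simp only [add_mul, map_add, LinearMap.add_apply, hp, hq]
      | tmul c r =>
        induction b using TensorProduct.induction_on with
        | zero => simp
        | add p q hp hq => simp only [mul_add, map_add, hp, hq]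
        | tmul d t =>
          simp only [Algebra.TensorProduct.tmul_mul_tmul, LinearMap.baseChange_tmul, AlgHom.toLinearMap_apply,
            VecGrp.GMod.smulW, TensorProduct.map₂_apply_tmul, map_mul]
          rfl
    rw [← key, hmQ, hmQ, ← key, (hρ B g).1]
  haveI : Module.Finite R (R ⧸ J) := Module.Finite.of_surjective (Submodule.mkQ J) (Submodule.mkQ_surjective J)
  obtain ⟨s, -, hle⟩ := fixed_fg_module ρ mQ i hfin hρ hc
  let R₀ := ρ.fixedSubalgebra hρ i
  haveI : Algebra.FiniteType k R₀ := hfin R ρ hρ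
  haveI : IsNoetherianRing R₀ := Algebra.FiniteType.isNoetherianRing k R₀
  have hptQ : ∀ (g : VecGrp.pt k k ⟶ G) (x : R),
      mQ.ρ k g ((1 : k) ⊗ₜ[k] π x) = (1 : k) ⊗ₜ[k] π (ptAct ρ g x) := fun g x => by
    have h := hmQ k g ((1 : k) ⊗ₜ[k] x)
    rw [LinearMap.baseChange_tmul, ptAct_spec ρ g x, LinearMap.baseChange_tmul] at h
    exact h
  have hfixM : ∀ n : ℕ, π (f ^ n) ∈ mQ.fixedUnder i := fun n => by
    refine mem_fixedUnder_of_pts' i mQ _ fun γ => ?_
    rw [hptQ]
    congr 1
    have hm : ∀ n : ℕ, π (ptAct ρ (γ ≫ i) (f ^ n)) = π (f ^ n) := by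
      intro n
      induction n with
      | zero =>
        rw [pow_zero]
        congr 1
        have e := (hρ k (γ ≫ i)).2
        rw [Algebra.TensorProduct.one_def, ptAct_spec] at e
        simpa using congrArg (TensorProduct.lid k R) e
      | succ n ih =>
        rw [pow_succ, ptAct_map_mul ρ hρ, map_mul, map_mul, ih]
        congr 1
        exact Ideal.Quotient.eq.2 (hf γ)
    exact hm n
  let S : Submodule R₀ (R ⧸ J) := Submodule.span R₀ (s : Set (R ⧸ J))
  have hpow : ∀ n : ℕ, π f ^ n ∈ S := fun n => by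
    rw [← map_pow]; exact hle (hfixM n)
  have hsub : Subalgebra.toSubmodule (Algebra.adjoin R₀ ({π f} : Set (R ⧸ J))) ≤ S := by
    rw [Algebra.adjoin_eq_span, Submodule.span_le]
    intro z hz
    obtain ⟨n, rfl⟩ := Submonoid.mem_closure_singleton.1 hz
    exact hpow n
  haveI : Module.Finite R₀ S := Module.Finite.iff_fg.2 ⟨s, rfl⟩
  haveI : IsNoetherian R₀ S := isNoetherian_of_isNoetherianRing_of_finite R₀ S
  have hfg : (Subalgebra.toSubmodule (Algebra.adjoin R₀ ({π f} : Set (R ⧸ J)))).FG := by
    have h1 := (IsNoetherian.noetherian (Submodule.comap S.subtype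
      (Subalgebra.toSubmodule (Algebra.adjoin R₀ ({π f} : Set (R ⧸ J)))))).map S.subtype
    rwa [Submodule.map_comap_subtype, inf_eq_right.2 hsub] at h1
  obtain ⟨p, hp, hpf⟩ := IsIntegral.of_mem_of_fg _ hfg (π f) (Algebra.self_mem_adjoin_singleton R₀ (π f))
  refine ⟨p, hp, Ideal.Quotient.eq_zero_iff_mem.1 ?_⟩
  rw [← hpf]
  exact (Polynomial.hom_eval₂ p (algebraMap R₀ R) (Ideal.Quotient.mk J) f)

end Groth.L16.GeomRed
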